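import Groth.Agent.H58AD.AdjoinDiagram
import Groth.Agent.H58AL.Fibrewise
import Groth.Agent.Lib.NormAmple.FinFreeMain
import Groth.Agent.Lib.DescAlg.Descends
import Groth.Agent.S4414
import Groth.Agent.S9223
import Mathlib.RingTheory.Jacobson.Ring

/-!
# An ample module on an extension of the base field gives one over the field
-/

set_option autoImplicit false
set_option linter.unusedVariables false
set_option linter.style.haveILetI false
set_option backward.isDefEq.respectTransparency false
set_option maxHeartbeats 1000000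

noncomputable section

universe u

open CategoryTheory CategoryTheory.Limits AlgebraicGeometry Opposite

namespace Groth.Agent.H58AD.Descent

open Groth.Agent.Lib Groth.Agent.Lib.Lim.Basic

local notation "pb" => Scheme.Modules.pullback

variable {k : Type u} [Field k] {X : Scheme.{u}} (p : X ⟶ Spec (CommRingCat.of k))

/-- The base change to `K`. -/
abbrev sm (K : Type u) [CommRing K] [Algebra k K] : Spec (CommRingCat.of K) ⟶ Spec (CommRingCat.of k) :=
  Spec.map (CommRingCat.ofHom (algebraMap k K))

theorem flat_surjective (K : Type u) [Field K] [Algebra k K] :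
    Flat (sm (k := k) K) ∧ Surjective (sm (k := k) K) :=
  ⟨(HasRingHomProperty.Spec_iff (P := @Flat)).2
      (RingHom.flat_algebraMap_iff.mpr (Module.Flat.of_free (R := k) (M := K))),
    ⟨fun z => ⟨(⟨⊥, Ideal.isPrime_bot⟩ : PrimeSpectrum K), Subsingleton.elim _ _⟩⟩⟩

theorem qcqs_of_isAmple (K : Type u) [Field K] [Algebra k K] {L : (pullback p (sm (k := k) K)).Modules}
    (hL : CohB1.IsAmple L) : CompactSpace X ∧ QuasiSeparatedSpace X := by
  obtain ⟨hf, hs⟩ := flat_surjective (k := k) K
  let π := pullback.fst p (sm (k := k) K)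
  haveI : IsAffineHom π := MorphismProperty.pullback_fst _ _ inferInstance
  haveI : Surjective π := MorphismProperty.pullback_fst _ _ inferInstance
  haveI : CompactSpace ↥(pullback p (sm (k := k) K)) := hL.2.1
  haveI := Ample.Pullback.quasiSeparatedSpace_of_isAmple hL
  refine ⟨⟨?_⟩, ?_⟩
  · rw [← Set.range_eq_univ.mpr π.surjective]
    exact isCompact_range π.continuous
  · refine quasiSeparatedSpace_iff _ |>.mpr fun U V hU hU' hV hV' => ?_
    have h1 : IsCompact (π ⁻¹' (U ∩ V)) := by
      rw [Set.preimage_inter]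
      exact QuasiSeparatedSpace.inter_isCompact _ _ (hU.preimage π.continuous)
        (π.isCompact_preimage (U := ⟨U, hU⟩) hU') (hV.preimage π.continuous)
        (π.isCompact_preimage (U := ⟨V, hV⟩) hV')
    rw [← Set.image_preimage_eq (U ∩ V) π.surjective]
    exact h1.image π.continuous

theorem exists_isAmple_of_finite (K : Type u) [Field K] [Algebra k K] [Module.Finite k K]
    [CompactSpace X] {L : (pullback p (sm (k := k) K)).Modules} (hL : CohB1.IsAmple L) :
    ∃ M : X.Modules, CohB1.IsAmple M := by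
  obtain ⟨hf, hs⟩ := flat_surjective (k := k) K
  haveI : IsFinite (sm (k := k) K) :=
    (IsFinite.SpecMap_iff _).2 (RingHom.finite_algebraMap.2 inferInstance)
  haveI : LocallyOfFinitePresentation (sm (k := k) K) :=
    (HasRingHomProperty.Spec_iff (P := @LocallyOfFinitePresentation)).2
      (RingHom.finitePresentation_algebraMap.2 (Algebra.FinitePresentation.of_finiteType.1 inferInstance))
  let π := pullback.fst p (sm (k := k) K)
  haveI : IsFinite π := MorphismProperty.pullback_fst _ _ inferInstance
  haveI : Flat π := MorphismProperty.pullback_fst _ _ inferInstance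
  haveI : LocallyOfFinitePresentation π := MorphismProperty.pullback_fst _ _ inferInstance
  haveI : Surjective π := MorphismProperty.pullback_fst _ _ inferInstance
  obtain ⟨d, ⟨N⟩⟩ := NormAmple.FinFreeMain.exists_norm
    (H81.PushLocFree.isFinLocFree_push π) π.surjective
  exact NormAmple.Bundle.exists_isAmple (NormAmple.Basic.ofNorm N π.surjective) π.surjective hL

theorem exists_isAmple (K : Type u) [Field K] [Algebra k K]
    {L : (pullback p (sm (k := k) K)).Modules} (hL : CohB1.IsAmple L) :
    ∃ M : X.Modules, CohB1.IsAmple M := by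
  obtain ⟨hc, hq⟩ := qcqs_of_isAmple p K hL
  haveI := hc
  haveI := hq
  let D := AdjoinDiagram.diagram k K
  let c := AdjoinDiagram.cone k K
  have hlim : IsLimit c := AdjoinDiagram.isLimitCone k K
  haveI : ∀ i j (φ : i ⟶ j), IsAffineHom (D.map φ) := fun i j φ => inferInstance
  let i₀ : (Finset K)ᵒᵖ := op ∅
  have hbij : Function.Bijective (algebraMap k (Algebra.adjoin k ((∅ : Finset K) : Set K))) := by
    refine ⟨(algebraMap k _).injective, fun x => ?_⟩
    have hx : (x : K) ∈ (⊥ : Subalgebra k K) := by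
      have h := x.2
      simp only [Finset.coe_empty, Algebra.adjoin_empty] at h
      exact h
    obtain ⟨r, hr⟩ := Algebra.mem_bot.mp hx
    exact ⟨r, Subtype.ext hr⟩
  let e : CommRingCat.of k ≅ CommRingCat.of (Algebra.adjoin k ((∅ : Finset K) : Set K)) :=
    (RingEquiv.ofBijective _ hbij).toCommRingCatIso
  haveI : IsIso (AdjoinDiagram.str k K i₀) := inferInstanceAs (IsIso (Spec.map e.hom))
  let a : X ⟶ D.obj i₀ := p ≫ inv (AdjoinDiagram.str k K i₀)
  have hsq : IsPullback (pullback.fst p (sm (k := k) K)) (pullback.snd p (sm (k := k) K)) a (c.π.app i₀) := by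
    refine IsPullback.of_iso (IsPullback.of_hasPullback p (sm (k := k) K)) (Iso.refl _) (Iso.refl _)
      (Iso.refl _) (asIso (AdjoinDiagram.str k K i₀)).symm ?_ ?_ ?_ ?_
    · simp
    · simp
    · simp [a]
    · simp only [Iso.refl_hom, Iso.symm_hom, asIso_inv, Category.id_comp]
      refine (IsIso.comp_inv_eq _).2 ?_
      exact (AdjoinDiagram.π_str k K i₀).symm
  haveI : ∀ o, CompactSpace ↥((bcDiagram D a).obj o) := fun o => compactSpace_bcDiagram D a o
  haveI : ∀ o, QuasiSeparatedSpace ↥((bcDiagram D a).obj o) := fun o => quasiSeparatedSpace_bcDiagram D a o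
  obtain ⟨hcol⟩ := H69.PicStage.Main.isColimit_invCl (bcDiagram D a) (bcCone hsq.w) (isLimitBcCone hlim hsq)
  obtain ⟨o₁, ⟨_, L₁, rfl, hL₁⟩, ho⟩ := Types.jointly_surjective_of_isColimit hcol
    (⟨PicF.cl L, L, rfl, hL.1⟩ : PicLoc.invCl.obj (Opposite.op (bcCone hsq.w).pt))
  obtain ⟨eL⟩ : Nonempty ((pb ((bcCone hsq.w).π.app o₁.unop)).obj L₁ ≅ L) :=
    (PerfPic.Basic.cl_eq_iff).1 (congrArg Subtype.val ho)
  obtain ⟨o, φ, hamp⟩ := S9223.result (bcDiagram D a) (bcCone hsq.w) (isLimitBcCone hlim hsq) o₁.unop L₁ hL₁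
    (Ample.Pow.isAmple_of_iso eL.symm hL)
  -- specialise at a closed point of the stage
  let S : Subalgebra k K := Algebra.adjoin k ((o.left.unop : Finset K) : Set K)
  haveI : Algebra.FiniteType k S :=
    (Subalgebra.fg_iff_finiteType _).1 (Subalgebra.fg_def.2 ⟨_, o.left.unop.finite_toSet, rfl⟩)
  obtain ⟨m, hm⟩ := Ideal.exists_maximal S
  letI : Field (S ⧸ m) := Ideal.Quotient.field m
  haveI : Module.Finite k (S ⧸ m) := finite_of_finite_type_of_isJacobsonRing k (S ⧸ m)
  let r : Spec (CommRingCat.of (S ⧸ m)) ⟶ D.obj o.left := Spec.map (CommRingCat.ofHom (Ideal.Quotient.mk m))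
  have hr : r ≫ AdjoinDiagram.str k K o.left = sm (k := k) (S ⧸ m) := by
    show Spec.map _ ≫ Spec.map _ = Spec.map _
    rw [← Spec.map_comp]
    rfl
  let t : pullback p (sm (k := k) (S ⧸ m)) ⟶ (bcDiagram D a).obj o :=
    pullback.lift (pullback.fst p _) (pullback.snd p _ ≫ r) (by
      rw [← cancel_mono (AdjoinDiagram.str k K i₀)]
      simp only [a, Category.assoc, IsIso.inv_hom_id, Category.comp_id]
      rw [AdjoinDiagram.map_str k K o.hom, hr]
      exact pullback.condition)
  haveI : IsAffineHom (t ≫ pullback.fst a (D.map o.hom)) := by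
    rw [pullback.lift_fst]
    exact MorphismProperty.pullback_fst _ _ inferInstance
  haveI : IsAffineHom (pullback.fst a (D.map o.hom)) := MorphismProperty.pullback_fst _ _ inferInstance
  haveI : IsAffineHom t := .of_comp t (pullback.fst a (D.map o.hom))
  exact exists_isAmple_of_finite p (S ⧸ m)
    (Ample.Pullback.isAmple_pullback t (Ample.Pullback.isQuasiAffine_of_isAffineHom t) hamp)

theorem isQuasiProjective (K : Type u) [Field K] [Algebra k K]
    (h : _root_.RelProj.IsQuasiProjective (pullback.snd p (sm (k := k) K))) :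
    _root_.RelProj.IsQuasiProjective p := by
  obtain ⟨h1, h2, L, hL⟩ := h
  obtain ⟨hf, hs⟩ := flat_surjective (k := k) K
  haveI := h2
  have hj : (@Surjective ⊓ @Flat ⊓ @QuasiCompact : MorphismProperty Scheme.{u}) (sm (k := k) K) :=
    ⟨⟨hs, hf⟩, inferInstance⟩
  have hp1 : LocallyOfFiniteType p :=
    MorphismProperty.of_pullback_snd_of_descendsAlong (P := @LocallyOfFiniteType) hj h1
  have hp2 : QuasiCompact p :=
    MorphismProperty.of_pullback_snd_of_descendsAlong (P := @QuasiCompact) hj h2
  obtain ⟨M, hM⟩ := exists_isAmple p K ((Ample.RelAmple.isRelAmple_iff_isAmple _).1 hL)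
  exact ⟨hp1, hp2, M, (Ample.RelAmple.isRelAmple_iff_isAmple _).2 hM⟩

theorem exists_ample_spec : ∃ M : (Spec (CommRingCat.of k)).Modules, CohB1.IsAmple M :=
  ⟨Coh.structureModule _, Ample.RelAmple.isAmple_of_isAffine (PicLoc.isInvertible_structureModule _)⟩

theorem exists_immersion (K : Type u) [Field K] [Algebra k K]
    (h : ∃ (n : ℕ) (i : pullback p (sm (k := k) K) ⟶ CohB1.ProjSpaceOver n (Spec (CommRingCat.of K))),
      IsImmersion i ∧ i ≫ CohB1.ProjSpaceOver.toBase n (Spec (CommRingCat.of K)) = pullback.snd p (sm (k := k) K)) :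
    ∃ (n : ℕ) (i : X ⟶ CohB1.ProjSpaceOver n (Spec (CommRingCat.of k))),
      IsImmersion i ∧ i ≫ CohB1.ProjSpaceOver.toBase n (Spec (CommRingCat.of k)) = p := by
  obtain ⟨n, i, hi, he⟩ := h
  have hlft : LocallyOfFiniteType (pullback.snd p (sm (k := k) K)) ∧
      QuasiCompact (pullback.snd p (sm (k := k) K)) := by
    haveI := hi
    rw [← he]
    haveI : LocallyOfFiniteType (CohB1.ProjSpaceOver.toBase n (Spec (CommRingCat.of K))) :=
      MorphismProperty.pullback_snd _ _ inferInstance
    haveI : QuasiCompact (CohB1.ProjSpaceOver.toBase n (Spec (CommRingCat.of K))) :=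
      MorphismProperty.pullback_snd _ _ inferInstance
    haveI : IsNoetherian (CohB1.ProjSpaceOver n (Spec (CommRingCat.of K))) := by
      haveI := LocallyOfFiniteType.isLocallyNoetherian (CohB1.ProjSpaceOver.toBase n (Spec (CommRingCat.of K)))
      haveI := QuasiCompact.compactSpace_of_compactSpace (CohB1.ProjSpaceOver.toBase n (Spec (CommRingCat.of K)))
      exact ⟨⟩
    haveI : TopologicalSpace.NoetherianSpace ↥(pullback p (sm (k := k) K)) :=
      i.isEmbedding.isInducing.noetherianSpace
    haveI : QuasiCompact i := ⟨fun U hU _ => TopologicalSpace.NoetherianSpace.isCompact _⟩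
    exact ⟨inferInstance, inferInstance⟩
  have hK := (S4414.result (exists_ample_spec (k := K)) (pullback.snd p (sm (k := k) K))).2
    ⟨hlft.1, hlft.2, n, i, hi, he⟩
  exact ((S4414.result (exists_ample_spec (k := k)) p).1 (isQuasiProjective p K hK)).2.2

theorem exists_closedImmersion (K : Type u) [Field K] [Algebra k K]
    (h : ∃ (n : ℕ) (i : pullback p (sm (k := k) K) ⟶ CohB1.ProjSpaceOver n (Spec (CommRingCat.of K))),
      IsClosedImmersion i ∧ i ≫ CohB1.ProjSpaceOver.toBase n (Spec (CommRingCat.of K)) = pullback.snd p (sm (k := k) K)) :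
    ∃ (n : ℕ) (i : X ⟶ CohB1.ProjSpaceOver n (Spec (CommRingCat.of k))),
      IsClosedImmersion i ∧ i ≫ CohB1.ProjSpaceOver.toBase n (Spec (CommRingCat.of k)) = p := by
  obtain ⟨n, i, hi, he⟩ := h
  obtain ⟨hf, hs⟩ := flat_surjective (k := k) K
  have hj : (@Surjective ⊓ @Flat ⊓ @QuasiCompact : MorphismProperty Scheme.{u}) (sm (k := k) K) :=
    ⟨⟨hs, hf⟩, inferInstance⟩
  haveI : IsProper (pullback.snd p (sm (k := k) K)) := by
    haveI := hi
    rw [← he]
    haveI : IsProper (CohB1.ProjSpaceOver.toBase n (Spec (CommRingCat.of K))) :=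
      MorphismProperty.pullback_snd _ _ inferInstance
    infer_instance
  haveI : IsProper p := MorphismProperty.of_pullback_snd_of_descendsAlong (P := @IsProper) hj ‹_›
  obtain ⟨m, j, hj', hje⟩ := exists_immersion p K ⟨n, i, inferInstance, he⟩
  haveI := hj'
  haveI : IsProper (j ≫ CohB1.ProjSpaceOver.toBase m (Spec (CommRingCat.of k))) := hje.symm ▸ ‹IsProper p›
  haveI : IsSeparated (CohB1.ProjSpaceOver.toBase m (Spec (CommRingCat.of k))) :=
    MorphismProperty.pullback_snd _ _ inferInstance
  haveI : IsProper j := IsProper.of_comp j (CohB1.ProjSpaceOver.toBase m (Spec (CommRingCat.of k)))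
  exact ⟨m, j, IsClosedImmersion.of_isPreimmersion j j.isClosedMap.isClosed_range, hje⟩

end Groth.Agent.H58AD.Descent
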