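import Mathlib.AlgebraicGeometry.GammaSpecAdjunction
import Mathlib.Algebra.Category.Ring.FilteredColimits
import Mathlib.CategoryTheory.Limits.Types.Filtered
import Mathlib.AlgebraicGeometry.Morphisms.Affine
import Mathlib.RingTheory.FiniteType

/-!
# A field extension as the limit of the finitely generated subalgebras
-/

set_option autoImplicit false

universe u

open CategoryTheory Limits AlgebraicGeometry Opposite

namespace Groth.Agent.H58AD.AdjoinDiagram

variable (k : Type u) [CommRing k] (B : Type u) [CommRing B] [Algebra k B]

/-- The finitely generated subalgebras. -/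
noncomputable def ringDiagram : Finset B ⥤ CommRingCat.{u} where
  obj s := CommRingCat.of (Algebra.adjoin k (s : Set B))
  map {s t} h := CommRingCat.ofHom
    (Subalgebra.inclusion (Algebra.adjoin_mono (R := k) (Finset.coe_subset.2 (leOfHom h)))).toRingHom
  map_id s := by ext x; rfl
  map_comp _ _ := by ext x; rfl

/-- The ring is the union. -/
noncomputable def ringCocone : Cocone (ringDiagram k B) where
  pt := CommRingCat.of B
  ι := { app := fun s => CommRingCat.ofHom (Algebra.adjoin k (s : Set B)).val.toRingHom
         naturality := fun _ _ _ => by ext x; rfl }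

/-- The ring is the colimit of its finitely generated subalgebras. -/
noncomputable def isColimitRingCocone : IsColimit (ringCocone k B) := by
  classical
  haveI : IsFiltered (Finset B) := inferInstance
  haveI : PreservesColimit (ringDiagram k B) (forget CommRingCat.{u}) := inferInstance
  haveI : ReflectsColimit (ringDiagram k B) (forget CommRingCat.{u}) :=
    reflectsColimit_of_reflectsIsomorphisms _ _
  apply isColimitOfReflects (forget CommRingCat.{u})
  refine Types.FilteredColimit.isColimitOf' _ _ (fun x => ?_) (fun i x y h => ?_)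
  · exact ⟨{(x : B)}, ⟨x, Algebra.subset_adjoin (Finset.mem_coe.2 (Finset.mem_singleton_self _))⟩, rfl⟩
  · exact ⟨i, 𝟙 i, by rw [Subtype.ext (h : (x : Algebra.adjoin k (i : Set B)).1 = y.1)]⟩

/-- The spectra of the finitely generated subalgebras. -/
noncomputable def diagram : (Finset B)ᵒᵖ ⥤ Scheme.{u} :=
  (ringDiagram k B).op ⋙ Scheme.Spec

/-- The cone with point `Spec B`. -/
noncomputable def cone : Cone (diagram k B) :=
  Scheme.Spec.mapCone (ringCocone k B).op

/-- `Spec B` is the limit. -/
noncomputable def isLimitCone : IsLimit (cone k B) :=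
  isLimitOfPreserves Scheme.Spec (isColimitRingCocone k B).op

instance isAffine_obj (s : (Finset B)ᵒᵖ) : IsAffine ((diagram k B).obj s) :=
  inferInstanceAs (IsAffine (Spec _))

instance isAffineHom_map {s t : (Finset B)ᵒᵖ} (h : s ⟶ t) : IsAffineHom ((diagram k B).map h) :=
  isAffineHom_of_isAffine _

/-- The structure map of a stage. -/
noncomputable def str (s : (Finset B)ᵒᵖ) : (diagram k B).obj s ⟶ Spec (CommRingCat.of k) :=
  Spec.map (CommRingCat.ofHom (algebraMap k (Algebra.adjoin k ((s.unop : Finset B) : Set B))))

theorem map_str {s t : (Finset B)ᵒᵖ} (h : s ⟶ t) : (diagram k B).map h ≫ str k B t = str k B s := by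
  show Spec.map _ ≫ Spec.map _ = Spec.map _
  refine (Spec.map_comp _ _).symm.trans (congrArg Spec.map ?_)
  ext x
  rfl

theorem π_str (s : (Finset B)ᵒᵖ) :
    (cone k B).π.app s ≫ str k B s = Spec.map (CommRingCat.ofHom (algebraMap k B)) := by
  show Spec.map _ ≫ Spec.map _ = Spec.map _
  refine (Spec.map_comp _ _).symm.trans (congrArg Spec.map ?_)
  ext x
  rfl

end Groth.Agent.H58AD.AdjoinDiagram
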